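import Groth.Agent.H71.LocFreeAnn.DualBasis
import Groth.Prelude.Def_Coh

/-!
# Annihilators of cohomology of finite locally free modules (helper71)
-/

set_option autoImplicit false
set_option linter.style.haveILetI false
universe u

namespace Groth.Agent.H71.LocFreeAnn

open AlgebraicGeometry CategoryTheory Opposite TopologicalSpace

variable {X : Scheme.{u}}

/-- the map of underlying abelian sheaves -/
noncomputable abbrev toAbMap {M N : X.Modules} (φ : M ⟶ N) : Coh.toAb M ⟶ Coh.toAb N :=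
  (SheafOfModules.toSheaf X.ringCatSheaf).map φ

theorem smulAb_nat {M N : X.Modules} (φ : M ⟶ N) (r : Coh.Γtop X) :
    Coh.smulAb M r ≫ toAbMap φ = toAbMap φ ≫ Coh.smulAb N r := by
  ext U s
  change (φ.val.app U).hom ((Coh.smulAb M r).hom.app U s) =
    (Coh.smulAb N r).hom.app U ((φ.val.app U).hom s)
  rw [Coh.smulAb_app, Coh.smulAb_app]
  exact (φ.val.app U).hom.map_smul _ _

theorem map_zero_apply {M N : X.Modules} (p : ℕ) (x : Coh.HH X M p) :
    Sheaf.H.map (0 : Coh.toAb M ⟶ Coh.toAb N) p x = 0 := by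
  change ((Sheaf.functorH _ p).map (0 : Coh.toAb M ⟶ Coh.toAb N)).hom x = 0
  rw [Functor.map_zero]
  rfl

/-- if `a` kills `H^p(X, O_X)` then it kills the image of `H^p` of any finite sum of endomorphisms
factoring through `O_X` -/
theorem smul_map_sum_eq_zero {r : ℕ} (F : X.Modules) (p : ℕ)
    (φ : Fin r → (F ⟶ Coh.structureModule X)) (σ : Fin r → (Coh.structureModule X ⟶ F))
    (a : Coh.Γtop X) (ha : ∀ y : Coh.HH X (Coh.structureModule X) p, a • y = 0)
    (S : Finset (Fin r)) (x : Coh.HH X F p) :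
    a • Sheaf.H.map (toAbMap (∑ l ∈ S, φ l ≫ σ l)) p x = 0 := by
  classical
  induction S using Finset.induction_on with
  | empty =>
    rw [Finset.sum_empty]
    have : toAbMap (0 : F ⟶ F) = 0 := Functor.map_zero _ _ _
    rw [this, map_zero_apply, smul_zero]
  | insert l S hl ih =>
    rw [Finset.sum_insert hl]
    have : toAbMap (φ l ≫ σ l + ∑ l ∈ S, φ l ≫ σ l) =
        toAbMap (φ l ≫ σ l) + toAbMap (∑ l ∈ S, φ l ≫ σ l) := Functor.map_add _
    rw [this, Sheaf.H.map_add_apply, smul_add, ih, add_zero]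
    change Sheaf.H.map (Coh.smulAb F a) p (Sheaf.H.map (toAbMap (φ l ≫ σ l)) p x) = 0
    have h1 : toAbMap (φ l ≫ σ l) = toAbMap (φ l) ≫ toAbMap (σ l) := Functor.map_comp _ _ _
    rw [← Sheaf.H.map_comp_apply, h1, Category.assoc, ← smulAb_nat, Sheaf.H.map_comp_apply,
      Sheaf.H.map_comp_apply]
    have h2 : Sheaf.H.map (Coh.smulAb (Coh.structureModule X) a) p
        (Sheaf.H.map (toAbMap (φ l)) p x) = 0 := ha _
    rw [h2, map_zero]

theorem resTop_pow (f : Coh.Γtop X) (U : (Opens X)ᵒᵖ) (k : ℕ) :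
    Coh.resTop X U (f ^ k) = (rf f U.unop) ^ k :=
  map_pow (Coh.resTop X U) f k

theorem toAbMap_comp_smulAb_eq {r : ℕ} (F : X.Modules) (f : Coh.Γtop X) (N M : ℕ)
    (φ : Fin r → (F ⟶ Coh.structureModule X)) (σ : Fin r → (Coh.structureModule X ⟶ F))
    (h : ∀ (U : X.Opens) (m : Γ(F, U)),
      (rf f U) ^ M • ∑ l, (σ l).app U ((φ l).app U m) = (rf f U) ^ N • m) :
    toAbMap (∑ l, φ l ≫ σ l) ≫ Coh.smulAb F (f ^ M) = Coh.smulAb F (f ^ N) := by
  ext U m
  change (Coh.smulAb F (f ^ M)).hom.app U ((∑ l, φ l ≫ σ l).app U.unop m) =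
    (Coh.smulAb F (f ^ N)).hom.app U m
  rw [Coh.smulAb_app, Coh.smulAb_app, resTop_pow, resTop_pow]
  have h1 := h U.unop m
  rw [sum_app Finset.univ (fun l => φ l ≫ σ l) U.unop m]
  exact h1

/-- the main annihilation statement over the ring of global functions -/
theorem smul_eq_zero_of_dual_basis {r : ℕ} (F : X.Modules) (p : ℕ) (f : Coh.Γtop X) (N M : ℕ)
    (φ : Fin r → (F ⟶ Coh.structureModule X)) (σ : Fin r → (Coh.structureModule X ⟶ F))
    (h : ∀ (U : X.Opens) (m : Γ(F, U)),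
      (rf f U) ^ M • ∑ l, (σ l).app U ((φ l).app U m) = (rf f U) ^ N • m)
    (a : Coh.Γtop X) (ha : ∀ y : Coh.HH X (Coh.structureModule X) p, a • y = 0)
    (x : Coh.HH X F p) : (a * f ^ N) • x = 0 := by
  rw [mul_smul]
  have h1 : (f ^ N) • x = (f ^ M) • Sheaf.H.map (toAbMap (∑ l, φ l ≫ σ l)) p x := by
    change Sheaf.H.map (Coh.smulAb F (f ^ N)) p x =
      Sheaf.H.map (Coh.smulAb F (f ^ M)) p (Sheaf.H.map (toAbMap (∑ l, φ l ≫ σ l)) p x)
    rw [← Sheaf.H.map_comp_apply, toAbMap_comp_smulAb_eq F f N M φ σ h]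
  have hc : a * f ^ M = f ^ M * a := mul_comm (G := Γ(X, ⊤)) a (f ^ M)
  rw [h1, ← mul_smul, hc, mul_smul, smul_map_sum_eq_zero F p φ σ a ha Finset.univ x, smul_zero]

end Groth.Agent.H71.LocFreeAnn
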