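import Groth.Agent.H71.LocFreeAnn.HomOfSec
import Groth.Agent.H22.QCohLoc
import Groth.Agent.H44.LocFree
import Groth.Agent.H18.SectionHom
import Groth.Agent.H67.FreeNearFinite

/-!
# Dual basis of a finite locally free module up to a power of `f` (helper71)
-/

set_option autoImplicit false
set_option linter.style.haveILetI false
universe u

namespace Groth.Agent.H71.LocFreeAnn

open AlgebraicGeometry CategoryTheory Opposite TopologicalSpace
open Groth.Agent.H6.HomSh

/-- dual basis of a finite projective module -/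
theorem exists_dual_basis (R P : Type*) [CommRing R] [AddCommGroup P] [Module R P]
    [Module.Finite R P] [Module.Projective R P] :
    ∃ (r : ℕ) (φ : Fin r → (P →ₗ[R] R)) (s : Fin r → P), ∀ m : P, ∑ l, φ l m • s l = m := by
  obtain ⟨r, p, hp⟩ := Module.Finite.exists_fin' R P
  obtain ⟨g, hg⟩ := Module.projective_lifting_property p LinearMap.id hp
  refine ⟨r, fun l => (LinearMap.proj l).comp g, fun l => p (Pi.single l 1), fun m => ?_⟩
  have h1 : ∑ l, (g m) l • p (Pi.single l 1) = p (g m) := by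
    classical
    rw [p.pi_apply_eq_sum_univ (g m)]
    refine Finset.sum_congr rfl (fun l _ => ?_)
    congr 2
    funext j
    by_cases h : l = j
    · subst h; simp
    · simp [h, Pi.single_apply, Ne.symm h]
  have h2 : p (g m) = m := congrArg (fun q => q m) hg
  simpa using h1.trans h2

variable {X : Scheme.{u}}

theorem sum_app {ι : Type*} (S : Finset ι) {M N : X.Modules} (ψ : ι → (M ⟶ N)) (U : X.Opens)
    (m : Γ(M, U)) : (∑ l ∈ S, ψ l).app U m = ∑ l ∈ S, (ψ l).app U m := by
  classical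
  induction S using Finset.induction_on with
  | empty => simp
  | insert a S ha ih =>
    rw [Finset.sum_insert ha, Finset.sum_insert ha, Scheme.Modules.Hom.add_app]
    change (ψ a).app U m + (∑ l ∈ S, ψ l).app U m = _
    rw [ih]

/-- restriction of global functions -/
noncomputable abbrev rf (f : Γ(X, ⊤)) (U : X.Opens) : Γ(X, U) :=
  X.presheaf.map (homOfLE (le_top : U ≤ ⊤)).op f

theorem exists_dual_basis_pow [CompactSpace X] [QuasiSeparatedSpace X] (F : X.Modules)
    (hF : FlatMod.IsFinLocFree F) (f : Γ(X, ⊤)) (hf : IsAffineOpen (X.basicOpen f)) :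
    ∃ (r N M : ℕ) (φ : Fin r → (F ⟶ Coh.structureModule X))
      (σ : Fin r → (Coh.structureModule X ⟶ F)),
      ∀ (U : X.Opens) (m : Γ(F, U)),
        (rf f U) ^ M • ∑ l, (σ l).app U ((φ l).app U m) = (rf f U) ^ N • m := by
  haveI : F.IsQuasicoherent := Groth.Agent.H67.FreeNearFinite.isQuasicoherent_of_isFinLocFree F hF
  haveI : (Coh.structureModule X).IsQuasicoherent :=
    Groth.Agent.H67.StalkLoc.isQuasicoherent_structureModule X
  have hfp : ∀ U : X.Opens, IsAffineOpen U → Module.FinitePresentation Γ(X, U) Γ(F, U) := by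
    intro U hU
    obtain ⟨h1, h2⟩ := Groth.Agent.H44.finite_projective_of_isFinLocFree F hF hU
    exact Module.finitePresentation_of_projective _ _
  haveI hq1 : (RefHull.homSh F (Coh.structureModule X)).IsQuasicoherent :=
    isQuasicoherent_homSh F _ hfp
  haveI hq2 : (RefHull.homSh F F).IsQuasicoherent := isQuasicoherent_homSh F F hfp
  obtain ⟨h1, h2⟩ := Groth.Agent.H44.finite_projective_of_isFinLocFree F hF hf
  obtain ⟨r, φ', s', hdual⟩ := exists_dual_basis Γ(X, X.basicOpen f) Γ(F, X.basicOpen f)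
  have hc : IsCompact ((⊤ : X.Opens) : Set X) := isCompact_univ
  have hqs : IsQuasiSeparated ((⊤ : X.Opens) : Set X) := by
    rw [Opens.coe_top]; exact isQuasiSeparated_univ
  let φ'' : Fin r → (Γ(F, X.basicOpen f) →ₗ[Γ(X, X.basicOpen f)]
      Γ(Coh.structureModule X, X.basicOpen f)) := φ'
  have H1 : ∀ l, ∃ (n : ℕ) (g : Γ(RefHull.homSh F (Coh.structureModule X), ⊤)),
      (RefHull.homSh F (Coh.structureModule X)).presheaf.map (homOfLE (X.basicOpen_le f)).op g =
        (X.presheaf.map (homOfLE (X.basicOpen_le f)).op f) ^ n • ofLin hf (φ'' l) := fun l =>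
    Groth.Agent.H22.exists_pow_smul_eq_res_of_qcqs _ hc hqs f (ofLin hf (φ'' l))
  have H2 : ∀ l, ∃ (n : ℕ) (t : Γ(F, ⊤)),
      F.presheaf.map (homOfLE (X.basicOpen_le f)).op t =
        (X.presheaf.map (homOfLE (X.basicOpen_le f)).op f) ^ n • s' l := fun l =>
    Groth.Agent.H22.exists_pow_smul_eq_res_of_qcqs _ hc hqs f (s' l)
  choose n1 g1 hg1 using H1
  choose n2 t1 ht1 using H2
  set fV : Γ(X, X.basicOpen f) := X.presheaf.map (homOfLE (X.basicOpen_le f)).op f with hfV
  let n : ℕ := max (Finset.univ.sup n1) (Finset.univ.sup n2)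
  have hn1 : ∀ l, n1 l ≤ n := fun l =>
    le_trans (Finset.le_sup (f := n1) (Finset.mem_univ l)) (le_max_left _ _)
  have hn2 : ∀ l, n2 l ≤ n := fun l =>
    le_trans (Finset.le_sup (f := n2) (Finset.mem_univ l)) (le_max_right _ _)
  let g : Fin r → Γ(RefHull.homSh F (Coh.structureModule X), ⊤) := fun l => f ^ (n - n1 l) • g1 l
  let t : Fin r → Γ(F, ⊤) := fun l => f ^ (n - n2 l) • t1 l
  have hg : ∀ l, (RefHull.homSh F (Coh.structureModule X)).presheaf.map
      (homOfLE (X.basicOpen_le f)).op (g l) = fV ^ n • ofLin hf (φ'' l) := by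
    intro l
    change (RefHull.homSh F (Coh.structureModule X)).presheaf.map
      (homOfLE (X.basicOpen_le f)).op (f ^ (n - n1 l) • g1 l) = _
    rw [Scheme.Modules.map_smul, map_pow, hg1 l, ← mul_smul, ← pow_add,
      Nat.sub_add_cancel (hn1 l)]
  have ht : ∀ l, F.presheaf.map (homOfLE (X.basicOpen_le f)).op (t l) = fV ^ n • s' l := by
    intro l
    change F.presheaf.map (homOfLE (X.basicOpen_le f)).op (f ^ (n - n2 l) • t1 l) = _
    rw [Scheme.Modules.map_smul, map_pow, ht1 l, ← mul_smul, ← pow_add,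
      Nat.sub_add_cancel (hn2 l)]
  let φ : Fin r → (F ⟶ Coh.structureModule X) := fun l => homOfSec (g l)
  let σ : Fin r → (Coh.structureModule X ⟶ F) := fun l => Groth.Agent.H18.sectionHom F (t l)
  let Ψ : F ⟶ F := ∑ l, φ l ≫ σ l
  have hΨ : ∀ (U : X.Opens) (m : Γ(F, U)), Ψ.app U m = ∑ l, (σ l).app U ((φ l).app U m) := by
    intro U m
    exact sum_app Finset.univ (fun l => φ l ≫ σ l) U m
  let e₁ : Γ(RefHull.homSh F F, ⊤) := RefHull.ofHom Ψ ⊤
  let e₂ : Γ(RefHull.homSh F F, ⊤) := f ^ (2 * n) • RefHull.ofHom (𝟙 F) ⊤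
  -- restriction of `e₁`, `e₂` to an open
  have hres1 : ∀ U : X.Opens, resSec e₁ U = RefHull.ofHom Ψ U := fun U => resSec_ofHom Ψ U
  have hres2 : ∀ U : X.Opens, resSec e₂ U = (rf f U) ^ (2 * n) • RefHull.ofHom (𝟙 F) U := by
    intro U
    change (RefHull.homSh F F).presheaf.map (homOfLE (le_top : U ≤ ⊤)).op
      (f ^ (2 * n) • RefHull.ofHom (𝟙 F) ⊤) = _
    rw [Scheme.Modules.map_smul, map_pow]
    congr 1
  have hV : (RefHull.homSh F F).presheaf.map (homOfLE (X.basicOpen_le f)).op (e₁ - e₂) = 0 := by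
    rw [map_sub, sub_eq_zero]
    apply (secEquiv hf).injective
    apply LinearMap.ext
    intro m
    rw [secEquiv_apply, secEquiv_apply]
    have e1 : (RefHull.homSh F F).presheaf.map (homOfLE (X.basicOpen_le f)).op e₁ =
        RefHull.ofHom Ψ (X.basicOpen f) := hres1 _
    have e2 : (RefHull.homSh F F).presheaf.map (homOfLE (X.basicOpen_le f)).op e₂ =
        fV ^ (2 * n) • RefHull.ofHom (𝟙 F) (X.basicOpen f) := hres2 _
    rw [e1, e2, toLin_ofHom, toLin_smul, LinearMap.smul_apply, toLin_ofHom, hΨ]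
    have h3 : ∀ l, (σ l).app (X.basicOpen f) ((φ l).app (X.basicOpen f) m) =
        fV ^ (2 * n) • (φ' l m • s' l) := by
      intro l
      have ha : (φ l).app (X.basicOpen f) m = fV ^ n • φ'' l m := by
        change toLin (resSec (g l) (X.basicOpen f)) m = _
        have : resSec (g l) (X.basicOpen f) = fV ^ n • ofLin hf (φ'' l) := hg l
        rw [this, toLin_smul, LinearMap.smul_apply, toLin_ofLin]
      rw [Groth.Agent.H18.sectionHom_app]
      have hb : Groth.Agent.H18.mres F (le_top : X.basicOpen f ≤ ⊤) (t l) = fV ^ n • s' l := ht l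
      rw [hb, ha]
      change (fV ^ n * φ' l m) • (fV ^ n • s' l) = _
      rw [← mul_smul, ← mul_smul, two_mul, pow_add]
      congr 1
      ring
    rw [Finset.sum_congr rfl (fun l _ => h3 l), ← Finset.smul_sum, hdual]
    rfl
  obtain ⟨M, hM⟩ := Groth.Agent.H22.exists_pow_smul_eq_zero_of_isCompact _ hc f (e₁ - e₂) hV
  have hM' : f ^ M • e₁ = f ^ M • e₂ := by
    rw [smul_sub, sub_eq_zero] at hM
    exact hM
  refine ⟨r, M + 2 * n, M, φ, σ, fun U m => ?_⟩
  have h4 : resSec (f ^ M • e₁) U = resSec (f ^ M • e₂) U := by rw [hM']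
  have h5 : ∀ e : Γ(RefHull.homSh F F, ⊤), resSec (f ^ M • e) U = (rf f U) ^ M • resSec e U := by
    intro e
    change (RefHull.homSh F F).presheaf.map (homOfLE (le_top : U ≤ ⊤)).op (f ^ M • e) = _
    rw [Scheme.Modules.map_smul, map_pow]
  rw [h5, h5, hres1, hres2] at h4
  have h6 := congrArg (fun e => toLin e m) h4
  simp only [toLin_smul, LinearMap.smul_apply, toLin_ofHom] at h6
  rw [hΨ] at h6
  rw [h6, pow_add, mul_smul]
  rfl

end Groth.Agent.H71.LocFreeAnn
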