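import Groth.Agent.H6.HomShQC

/-!
# Morphisms of modules from global sections of the sheaf Hom (helper71)

* `homOfSec g : F ⟶ G` for `g : Γ(RefHull.homSh F G, ⊤)`, with `(homOfSec g).app U m = toLin (g|_U) m`;
* `toLin_ofHom`: the linear map of the section defined by a morphism is the morphism on sections.
-/

set_option autoImplicit false
set_option linter.style.haveILetI false
universe u

namespace Groth.Agent.H71.LocFreeAnn

open AlgebraicGeometry CategoryTheory Opposite TopologicalSpace
open Groth.Agent.H6.HomSh

variable {X : Scheme.{u}} {F G : X.Modules}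

/-- restriction of a global section of the sheaf Hom to an open -/
noncomputable abbrev resSec (g : Γ(RefHull.homSh F G, ⊤)) (U : X.Opens) : Γ(RefHull.homSh F G, U) :=
  (RefHull.homSh F G).presheaf.map (homOfLE (le_top : U ≤ ⊤)).op g

theorem resSec_res (g : Γ(RefHull.homSh F G, ⊤)) {U V : X.Opens} (i : V ⟶ U) :
    (RefHull.homSh F G).presheaf.map i.op (resSec g U) = resSec g V := by
  unfold resSec
  rw [← ConcreteCategory.comp_apply, ← Functor.map_comp]
  rfl

/-- the morphism of modules defined by a global section of the sheaf Hom -/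
noncomputable def homOfSec (g : Γ(RefHull.homSh F G, ⊤)) : F ⟶ G :=
  ⟨PresheafOfModules.homMk
    { app := fun U => AddCommGrpCat.ofHom (toLin (resSec g U.unop)).toAddMonoidHom
      naturality := fun {U V} i => by
        ext m
        change toLin (resSec g V.unop) (F.presheaf.map i m) = G.presheaf.map i (toLin (resSec g U.unop) m)
        have := toLin_res i.unop (resSec g U.unop) m
        rw [resSec_res] at this
        exact this }
    (fun U r m => (toLin (resSec g U.unop)).map_smul r m)⟩

theorem homOfSec_app (g : Γ(RefHull.homSh F G, ⊤)) (U : X.Opens) (m : Γ(F, U)) :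
    (homOfSec g).app U m = toLin (resSec g U) m := rfl

/-- the linear map attached to the section defined by a morphism is the morphism on sections -/
theorem toLin_ofHom (φ : F ⟶ G) (U : X.Opens) (m : Γ(F, U)) :
    toLin (RefHull.ofHom φ U) m = φ.app U m := by
  apply section_ext G
  intro y
  rw [germ_toLin, RefHull.ofHom_apply, RefHull.stalkMapₗ_germ]

theorem resSec_ofHom (φ : F ⟶ G) (U : X.Opens) :
    resSec (RefHull.ofHom φ ⊤) U = RefHull.ofHom φ U := by
  apply Subtype.ext
  funext y
  rfl

theorem homOfSec_ofHom (φ : F ⟶ G) : homOfSec (RefHull.ofHom φ ⊤) = φ := by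
  apply Scheme.Modules.hom_ext
  intro U
  ext m
  change toLin (resSec (RefHull.ofHom φ ⊤) U) m = _
  rw [resSec_ofHom, toLin_ofHom]

end Groth.Agent.H71.LocFreeAnn
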