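import Groth.Agent.H71.LocFreeAnn.Coh
import Groth.Prelude.Def_Wider

/-!
# The punctured spectrum: annihilators of cohomology of finite locally free modules (helper71)
-/

set_option autoImplicit false
set_option linter.style.haveILetI false
universe u

namespace Groth.Agent.H71.LocFreeAnn

open AlgebraicGeometry CategoryTheory Opposite TopologicalSpace

variable (A : Type u) [CommRing A] (I : Ideal A)

theorem isCompact_puncturedOpen (hI : I.FG) :
    IsCompact ((LocCoh.puncturedOpen A I : (Spec (CommRingCat.of A)).Opens) : Set (Spec (CommRingCat.of A))) :=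
  (PrimeSpectrum.isCompact_isOpen_iff_ideal.mpr ⟨I, hI, rfl⟩).1

theorem compactSpace_puncturedOpen (hI : I.FG) :
    CompactSpace (↑(LocCoh.puncturedOpen A I) : Scheme.{u}) :=
  isCompact_iff_compactSpace.mp (isCompact_puncturedOpen A I hI)

theorem quasiSeparatedSpace_puncturedOpen :
    QuasiSeparatedSpace (↑(LocCoh.puncturedOpen A I) : Scheme.{u}) :=
  (LocCoh.puncturedOpen A I).ι.isOpenEmbedding.quasiSeparatedSpace

theorem over_eq : ((↑(LocCoh.puncturedOpen A I) : Scheme.{u}) ↘ Spec (CommRingCat.of A)) =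
    (LocCoh.puncturedOpen A I).ι := rfl

/-- the image of `f₀ ∈ A` in the global functions of the punctured spectrum -/
noncomputable abbrev gf (f₀ : A) : Coh.Γtop (↑(LocCoh.puncturedOpen A I) : Scheme.{u}) :=
  Coh.toGlobal ((↑(LocCoh.puncturedOpen A I) : Scheme.{u}) ↘ Spec (CommRingCat.of A)) f₀

theorem basicOpen_gf (f₀ : A) :
    (↑(LocCoh.puncturedOpen A I) : Scheme.{u}).basicOpen (gf A I f₀ : Γ((↑(LocCoh.puncturedOpen A I) : Scheme.{u}), ⊤)) =
      (LocCoh.puncturedOpen A I).ι ⁻¹ᵁ (PrimeSpectrum.basicOpen f₀) := by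
  rw [← basicOpen_eq_of_affine (R := CommRingCat.of A) f₀, Scheme.preimage_basicOpen_top]
  rfl

theorem isAffineOpen_basicOpen_gf {f₀ : A} (hf : f₀ ∈ I) :
    IsAffineOpen ((↑(LocCoh.puncturedOpen A I) : Scheme.{u}).basicOpen
      (gf A I f₀ : Γ((↑(LocCoh.puncturedOpen A I) : Scheme.{u}), ⊤))) := by
  rw [basicOpen_gf]
  refine IsAffineOpen.preimage_of_isOpenImmersion
    (U := PrimeSpectrum.basicOpen f₀) ?_ (LocCoh.puncturedOpen A I).ι ?_
  · exact IsAffineOpen.Spec_basicOpen (R := CommRingCat.of A) f₀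
  · rw [Scheme.Opens.opensRange_ι]
    intro x hx
    change x ∈ (PrimeSpectrum.zeroLocus (I : Set A))ᶜ
    intro hx'
    exact hx (hx' hf)

/-- pure algebra: if for every `f ∈ J` some `J ^ n * f ^ N` lies in `𝔞`, then a power of `J` does -/
theorem exists_pow_le_of_forall_pow_mul {J 𝔞 : Ideal A} (hJ : J.FG) (n : ℕ)
    (h : ∀ f ∈ J, ∃ N : ℕ, ∀ a ∈ J ^ n, a * f ^ N ∈ 𝔞) : ∃ m : ℕ, J ^ m ≤ 𝔞 := by
  have h1 : J ≤ (𝔞.colon ((J ^ n : Ideal A) : Set A)).radical := by
    intro f hf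
    obtain ⟨N, hN⟩ := h f hf
    refine ⟨N, Submodule.mem_colon.mpr (fun a ha => ?_)⟩
    rw [smul_eq_mul, mul_comm]
    exact hN a ha
  obtain ⟨k, hk⟩ := Ideal.exists_pow_le_of_le_radical_of_fg h1 hJ
  refine ⟨n + k, ?_⟩
  rw [pow_add, Ideal.mul_le]
  intro a ha b hb
  have := Submodule.mem_colon.mp (hk hb) a ha
  rw [smul_eq_mul, mul_comm] at this
  exact this

theorem exists_pow_kills (J : Ideal A) (hJI : J ≤ I) (hJ : J.FG) (hI : I.FG) (p n : ℕ)
    (hO : ∀ a ∈ J ^ n, ∀ x : Coh.HH (↑(LocCoh.puncturedOpen A I))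
      (Coh.structureModule (↑(LocCoh.puncturedOpen A I))) p, a • x = 0)
    (F : (↑(LocCoh.puncturedOpen A I) : Scheme.{u}).Modules) (hF : FlatMod.IsFinLocFree F) :
    ∃ m : ℕ, ∀ a ∈ J ^ m, ∀ x : Coh.HH (↑(LocCoh.puncturedOpen A I)) F p, a • x = 0 := by
  haveI := compactSpace_puncturedOpen A I hI
  haveI := quasiSeparatedSpace_puncturedOpen A I
  have key : ∀ f ∈ J, ∃ N : ℕ, ∀ a ∈ J ^ n, a * f ^ N ∈
      Module.annihilator A (Coh.HH (↑(LocCoh.puncturedOpen A I)) F p) := by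
    intro f₀ hf₀
    obtain ⟨r, N, M, φ, σ, h⟩ := exists_dual_basis_pow F hF
      (gf A I f₀ : Γ((↑(LocCoh.puncturedOpen A I) : Scheme.{u}), ⊤))
      (isAffineOpen_basicOpen_gf A I (hJI hf₀))
    refine ⟨N, fun a ha => Module.mem_annihilator.mpr (fun x => ?_)⟩
    change Coh.toGlobal ((↑(LocCoh.puncturedOpen A I) : Scheme.{u}) ↘ Spec (CommRingCat.of A))
      (a * f₀ ^ N) • x = 0
    rw [map_mul, map_pow]
    exact smul_eq_zero_of_dual_basis F p (gf A I f₀) N M φ σ h _ (fun y => hO a ha y) x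
  obtain ⟨m, hm⟩ := exists_pow_le_of_forall_pow_mul A hJ n key
  exact ⟨m, fun a ha x => Module.mem_annihilator.mp (hm ha) x⟩

end Groth.Agent.H71.LocFreeAnn
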